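import Groth.Agent.EtMVLib.ExtTools
import Groth.Agent.TriCat.AcyclicObj

/-! Ext groups out of the image of an exact fully faithful left adjoint -/

universe w v₁ v₂ u₁ u₂

open CategoryTheory CategoryTheory.Limits CategoryTheory.Abelian

namespace Groth.Agent.SitePullUnit

variable {A : Type u₁} [Category.{v₁} A] [Abelian A] [HasExt.{w} A] [EnoughInjectives A]
  {B : Type u₂} [Category.{v₂} B] [Abelian B] [HasExt.{w} B] [EnoughInjectives B]
  {L : A ⥤ B} {R : B ⥤ A} (adj : L ⊣ R) [R.Additive] [PreservesFiniteLimits R]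

variable [L.PreservesMonomorphisms]

include adj in
/-- `Ext^{>0}(L A, M) = 0` when `R M` is injective and `M` is `R`-acyclic -/
theorem ext_eq_zero_of_push (n : ℕ) : ∀ (M : B), Injective (R.obj M) →
    (∀ q, IsZero ((R.rightDerived (q + 1)).obj M)) → ∀ (Z : A) (x : Ext (L.obj Z) M (n + 1)), x = 0 := by
  induction n with
  | zero =>
    intro M hM hR Z x
    let S := EtMVLib.injSES M
    have hS : S.ShortExact := EtMVLib.injSES_shortExact M
    obtain ⟨y, rfl⟩ := EtMVLib.exists_eq_comp_extClass x
    obtain ⟨f, rfl⟩ := (Ext.mk₀_bijective _ _).2 y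
    have hRS : (S.map R).ShortExact := TriCat.shortExact_map_of_subsingleton hS (hR 0)
    have : Injective (S.map R).X₁ := hM
    let σ := hRS.splittingOfInjective
    have hf : f = (adj.homEquiv Z S.X₂).symm (adj.homEquiv Z S.X₃ f ≫ σ.s) ≫ S.g := by
      apply (adj.homEquiv Z S.X₃).injective
      rw [Adjunction.homEquiv_naturality_right, Equiv.apply_symm_apply]
      exact ((Category.assoc _ _ _).trans ((congrArg (_ ≫ ·) σ.s_g).trans (Category.comp_id _))).symm
    rw [hf, ← Ext.mk₀_comp_mk₀, Ext.comp_assoc_of_second_deg_zero, hS.comp_extClass]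
    exact Ext.comp_zero _ _ _ _ rfl
  | succ n ih =>
    intro M hM hR Z x
    let S := EtMVLib.injSES M
    have hS : S.ShortExact := EtMVLib.injSES_shortExact M
    obtain ⟨y, rfl⟩ := EtMVLib.exists_eq_comp_extClass x
    have : Injective S.X₂ := inferInstanceAs (Injective (Injective.under M))
    have hRS : (S.map R).ShortExact := TriCat.shortExact_map_of_subsingleton hS (hR 0)
    have hX₁ : Injective (S.map R).X₁ := hM
    let σ := hRS.splittingOfInjective
    have hX₃ : Injective (R.obj S.X₃) := by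
      have : Injective (R.obj S.X₂) := adj.map_injective S.X₂ ‹Injective S.X₂›
      exact Retract.injective { i := σ.s, r := R.map S.g, retract := σ.s_g : Retract (R.obj S.X₃) (R.obj S.X₂) }
    have h3 : ∀ q, IsZero ((R.rightDerived (q + 1)).obj S.X₃) := fun q =>
      TriCat.acyclic₃ hS (fun i hi => by obtain ⟨j, rfl⟩ := Nat.exists_eq_succ_of_ne_zero hi.ne'; exact hR j)
        (TriCat.isRightAcyclic_of_injective S.X₂) (q + 1) q.succ_pos
    rw [ih S.X₃ hX₃ h3 Z y]
    exact Ext.zero_comp _ _ _ _ rfl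

omit [EnoughInjectives B] [L.PreservesMonomorphisms] in
/-- an exact fully faithful left adjoint preserves Ext when it sends injectives to acyclic objects -/
theorem mapExactFunctor_bijective [L.Full] [L.Faithful] [L.Additive] [PreservesFiniteLimits L]
    [PreservesFiniteColimits L]
    (hI : ∀ (I : A) [Injective I] (Z : A) (n : ℕ) (x : Ext (L.obj Z) (L.obj I) (n + 1)), x = 0)
    (Z F : A) (n : ℕ) : Function.Bijective (fun α : Ext Z F n => α.mapExactFunctor L) := by
  induction n generalizing F with
  | zero =>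
    refine ⟨fun x y hxy => ?_, fun y => ?_⟩
    · obtain ⟨f, rfl⟩ := (Ext.mk₀_bijective _ _).2 x
      obtain ⟨g, rfl⟩ := (Ext.mk₀_bijective _ _).2 y
      simp only [Ext.mapExactFunctor_mk₀] at hxy
      rw [L.map_injective ((Ext.mk₀_bijective _ _).1 hxy)]
    · obtain ⟨g, rfl⟩ := (Ext.mk₀_bijective _ _).2 y
      exact ⟨Ext.mk₀ (L.preimage g), by simp only [Ext.mapExactFunctor_mk₀, Functor.map_preimage]⟩
  | succ n ih =>
    let hS := EtMVLib.injSES_shortExact F
    have : Injective (EtMVLib.injSES F).X₂ := inferInstanceAs (Injective (Injective.under F))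
    refine ⟨fun x y hxy => ?_, fun β => ?_⟩
    · rw [← sub_eq_zero]
      obtain ⟨α', hα'⟩ := EtMVLib.exists_eq_comp_extClass (x - y)
      rw [← hα']
      have h0 : (α'.comp hS.extClass rfl).mapExactFunctor L = 0 := by
        rw [hα', sub_eq_add_neg, Ext.mapExactFunctor_add]
        simp only at hxy
        rw [hxy, ← Ext.mapExactFunctor_add, add_neg_cancel, Ext.mapExactFunctor_zero]
      rw [Ext.mapExactFunctor_comp, Ext.mapExactFunctor_extClass] at h0
      obtain ⟨γ, hγ⟩ := Ext.covariant_sequence_exact₃ _ (hS.map_of_exact L) _ rfl h0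
      obtain ⟨γ', rfl⟩ := (ih _).2 γ
      have : γ'.comp (Ext.mk₀ (EtMVLib.injSES F).g) (add_zero n) = α' := (ih _).1 (by
        simp only [Ext.mapExactFunctor_comp, Ext.mapExactFunctor_mk₀]
        exact hγ)
      rw [← this, Ext.comp_assoc_of_second_deg_zero, hS.comp_extClass]
      exact Ext.comp_zero _ _ _ _ rfl
    · obtain ⟨β', hβ⟩ := Ext.covariant_sequence_exact₁ (L.obj Z) (hS.map_of_exact L) β
        (hI _ Z n _) rfl
      obtain ⟨α', rfl⟩ := (ih _).2 β'
      refine ⟨α'.comp hS.extClass rfl, ?_⟩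
      simp only [Ext.mapExactFunctor_comp, Ext.mapExactFunctor_extClass]
      exact hβ

end Groth.Agent.SitePullUnit
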