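import Mathlib.CategoryTheory.Abelian.RightDerived
import Mathlib.CategoryTheory.Abelian.Injective.Resolution
import Mathlib.Algebra.Homology.ShortComplex.ExactFunctor

/-! vanishing of right derived functors on a class of objects -/

universe v₁ v₂ u₁ u₂

open CategoryTheory CategoryTheory.Limits

namespace Groth.Agent.SitePullUnit

variable {A : Type u₁} [Category.{v₁} A] [Abelian A] [EnoughInjectives A]
  {B : Type u₂} [Category.{v₂} B] [Abelian B]

theorem isZero_rightDerived_of_class (R : A ⥤ B) [R.Additive] [PreservesFiniteLimits R] (P : A → Prop)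
    (hcoker : ∀ S : ShortComplex A, S.ShortExact → P S.X₁ → Injective S.X₂ → P S.X₃)
    (hepi : ∀ S : ShortComplex A, S.ShortExact → P S.X₁ → Injective S.X₂ → Epi (R.map S.g))
    {X : A} (hX : P X) (q : ℕ) : IsZero ((R.rightDerived (q + 1)).obj X) := by
  let I := injectiveResolution X
  let K := I.cocomplex
  have hcyc : ∀ n, ∃ (Z : A) (ι : Z ⟶ K.X n) (w : ι ≫ K.d n (n + 1) = 0),
      Mono ι ∧ (ShortComplex.mk ι _ w).Exact ∧ P Z := by
    intro n
    induction n with
    | zero => exact ⟨X, _, I.ι_f_zero_comp_complex_d, CategoryTheory.InjectiveResolution.instMonoFNatι I 0, I.exact₀, hX⟩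
    | succ n ih =>
      obtain ⟨Z, ι, w, hm, hex, hZ⟩ := ih
      have hS : (ShortComplex.mk ι (cokernel.π ι) (cokernel.condition ι)).ShortExact :=
        { exact := ShortComplex.exact_of_g_is_cokernel _ (cokernelIsCokernel ι)
          mono_f := hm }
      let m := cokernel.desc ι (K.d n (n + 1)) w
      have hmono : Mono m := hex.mono_cokernelDesc
      have hw : m ≫ K.d (n + 1) (n + 1 + 1) = 0 := by
        rw [← cancel_epi (cokernel.π ι), cokernel.π_desc_assoc, K.d_comp_d, comp_zero]
      refine ⟨cokernel ι, m, hw, hmono, ?_, hcoker _ hS hZ (I.injective n)⟩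
      let φ : ShortComplex.mk _ _ (K.d_comp_d n (n + 1) (n + 1 + 1)) ⟶ ShortComplex.mk m _ hw :=
        { τ₁ := cokernel.π ι
          τ₂ := 𝟙 _
          τ₃ := 𝟙 _
          comm₁₂ := by simp [m]
          comm₂₃ := by simp }
      exact (ShortComplex.exact_iff_of_epi_of_isIso_of_mono φ).1 (I.exact_succ n)
  refine IsZero.of_iso ?_ (I.isoRightDerivedObj R (q + 1))
  rw [HomologicalComplex.homologyFunctor_obj, ← HomologicalComplex.exactAt_iff_isZero_homology,
    HomologicalComplex.exactAt_iff' _ q (q + 1) (q + 1 + 1) (by simp) (by simp)]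
  obtain ⟨Z, ι, w, hm, hex, hZ⟩ := hcyc q
  obtain ⟨Z', ι', w', hm', hex', -⟩ := hcyc (q + 1)
  have hS : (ShortComplex.mk ι (cokernel.π ι) (cokernel.condition ι)).ShortExact :=
    { exact := ShortComplex.exact_of_g_is_cokernel _ (cokernelIsCokernel ι)
      mono_f := hm }
  have he : Epi (R.map (cokernel.π ι)) := hepi _ hS hZ (I.injective q)
  let m := cokernel.desc ι (K.d q (q + 1)) w
  have hmono : Mono m := hex.mono_cokernelDesc
  have hw : m ≫ K.d (q + 1) (q + 1 + 1) = 0 := by
    rw [← cancel_epi (cokernel.π ι), cokernel.π_desc_assoc, K.d_comp_d, comp_zero]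
  have hexm : (ShortComplex.mk m _ hw).Exact := by
    let φ : ShortComplex.mk _ _ (K.d_comp_d q (q + 1) (q + 1 + 1)) ⟶ ShortComplex.mk m _ hw :=
      { τ₁ := cokernel.π ι
        τ₂ := 𝟙 _
        τ₃ := 𝟙 _
        comm₁₂ := by simp [m]
        comm₂₃ := by simp }
    exact (ShortComplex.exact_iff_of_epi_of_isIso_of_mono φ).1 (I.exact_succ q)
  let T := (ShortComplex.mk m _ hw).map R
  have : Mono T.f := inferInstanceAs (Mono (R.map m))
  have hT : T.Exact := ShortComplex.exact_of_f_is_kernel _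
    (KernelFork.mapIsLimit _ hexm.fIsKernel R)
  let ψ : ((R.mapHomologicalComplex (ComplexShape.up ℕ)).obj K).sc' q (q + 1) (q + 1 + 1) ⟶ T :=
    { τ₁ := R.map (cokernel.π ι)
      τ₂ := 𝟙 _
      τ₃ := 𝟙 _
      comm₁₂ := by
        change R.map (cokernel.π ι) ≫ R.map m = R.map (K.d q (q + 1)) ≫ 𝟙 _
        rw [← R.map_comp, cokernel.π_desc, Category.comp_id]
      comm₂₃ := by
        change 𝟙 _ ≫ R.map _ = R.map _ ≫ 𝟙 _
        rw [Category.id_comp, Category.comp_id] }
  have : Epi ψ.τ₁ := he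
  have : IsIso ψ.τ₂ := inferInstanceAs (IsIso (𝟙 _))
  have : Mono ψ.τ₃ := inferInstanceAs (Mono (𝟙 _))
  exact (ShortComplex.exact_iff_of_epi_of_isIso_of_mono ψ).2 hT

end Groth.Agent.SitePullUnit
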