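import Groth.Agent.EtFound.Basic
import Mathlib.CategoryTheory.Sites.Pullback
import Mathlib.CategoryTheory.Sites.LocallyBijective
import Mathlib.CategoryTheory.Functor.KanExtension.Adjunction

/-! unit of the pullback of abelian sheaves along a representably flat continuous functor, via germs -/

universe u

open CategoryTheory CategoryTheory.Limits Opposite

namespace Groth.Agent.SitePullUnit

set_option backward.isDefEq.respectTransparency.types false

variable {C D : Type (u + 1)} [Category.{u} C] [Category.{u} D] (G : C ⥤ D)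
  {J : GrothendieckTopology C} (K : GrothendieckTopology D) [G.IsContinuous J K]
  (F : Sheaf J AddCommGrpCat.{u + 1})



/-- the presheaf extension -/
noncomputable abbrev lanP : Dᵒᵖ ⥤ AddCommGrpCat.{u + 1} := G.op.lan.obj F.obj

/-- the unit into the sheafified extension -/
noncomputable def conUnit : F.obj ⟶ G.op ⋙ ((presheafToSheaf K AddCommGrpCat.{u + 1}).obj (lanP G F)).obj :=
  G.op.lanUnit.app F.obj ≫ Functor.whiskerLeft G.op (toSheafify K (lanP G F))

/-- the pulled back sheaf, as constructed -/
noncomputable abbrev pulled : Dᵒᵖ ⥤ AddCommGrpCat.{u + 1} := ((presheafToSheaf K AddCommGrpCat.{u + 1}).obj (lanP G F)).obj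

theorem unit_con :
    ((Functor.sheafPullbackConstruction.sheafAdjunctionContinuous G AddCommGrpCat.{u + 1} J K).unit.app F).hom
      = conUnit G K F := by
  simp [Functor.sheafPullbackConstruction.sheafAdjunctionContinuous, Adjunction.restrictFullyFaithful, conUnit]
  erw [Category.comp_id, Adjunction.homEquiv_unit, CategoryTheory.Functor.map_id, Category.comp_id,
    Adjunction.comp_unit_app]
  rfl

theorem isIso_unit (h₁ : Presheaf.IsLocallyInjective J (conUnit G K F))
    (h₂ : Presheaf.IsLocallySurjective J (conUnit G K F)) :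
    IsIso ((G.sheafAdjunctionContinuous AddCommGrpCat.{u + 1} J K).unit.app F) := by
  let ad := Functor.sheafPullbackConstruction.sheafAdjunctionContinuous G AddCommGrpCat.{u + 1} J K
  have : IsIso (ad.unit.app F) := by
    refine (Sheaf.isLocallyBijective_iff_isIso _).1 ⟨?_, ?_⟩
    · change Presheaf.IsLocallyInjective J (ad.unit.app F).hom
      rwa [unit_con]
    · change Presheaf.IsLocallySurjective J (ad.unit.app F).hom
      rwa [unit_con]
  rw [← Adjunction.unit_leftAdjointUniq_hom_app ad (G.sheafAdjunctionContinuous AddCommGrpCat.{u + 1} J K) F]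
  infer_instance

variable [RepresentablyFlat G]

instance filtered_costructuredArrow (d : D) : IsFiltered (CostructuredArrow G.op (op d)) :=
  IsFiltered.of_equivalence (structuredArrowOpEquivalence G d)

instance forget_shape (d : D) :
    PreservesColimitsOfShape (CostructuredArrow G.op (op d)) (forget AddCommGrpCat.{u + 1}) :=
  have : PreservesFilteredColimitsOfSize.{u + 1, u + 1} (forget AddCommGrpCat.{u + 1}) :=
    AddCommGrpCat.FilteredColimits.forget_preservesFilteredColimits.{u + 1}
  have : IsFiltered (AsSmall.{u + 1} (CostructuredArrow G.op (op d))) :=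
    IsFiltered.of_equivalence AsSmall.equiv
  preservesColimitsOfShape_of_equiv AsSmall.equiv.symm _

/-- germs of the sheafified extension -/
noncomputable def sGerm {d : D} {U : C} (b : d ⟶ G.obj U) (x : F.obj.obj (op U)) :
    (pulled G K F).obj (op d) :=
  (pulled G K F).map b.op ((conUnit G K F).app (op U) x)

theorem map_sGerm {d d' : D} (f : d' ⟶ d) {U : C} (b : d ⟶ G.obj U) (x : F.obj.obj (op U)) :
    (pulled G K F).map f.op (sGerm G K F b x) = sGerm G K F (f ≫ b) x := by
  rw [sGerm, sGerm, ← ConcreteCategory.comp_apply, ← Functor.map_comp, ← op_comp]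

theorem sGerm_map {d : D} {U U' : C} (c : U' ⟶ U) (b : d ⟶ G.obj U') (x : F.obj.obj (op U)) :
    sGerm G K F b (F.obj.map c.op x) = sGerm G K F (b ≫ G.map c) x := by
  rw [sGerm, sGerm, NatTrans.naturality_apply, op_comp, Functor.map_comp]
  rfl

theorem sGerm_eq_toSheafify {d : D} {U : C} (b : d ⟶ G.obj U) (x : F.obj.obj (op U)) :
    sGerm G K F b x = (toSheafify K (lanP G F)).app (op d)
      ((lanP G F).map b.op ((G.op.lanUnit.app F.obj).app (op U) x)) := by
  rw [sGerm, NatTrans.naturality_apply]
  rfl

/-- every section is locally a germ -/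
theorem exists_cover_sGerm {d : D} (t : (pulled G K F).obj (op d)) :
    ∃ R ∈ K d, ∀ ⦃d' : D⦄ (f : d' ⟶ d), R.arrows f → ∃ (U : C) (b : d' ⟶ G.obj U) (x : F.obj.obj (op U)),
      sGerm G K F b x = (pulled G K F).map f.op t := by
  refine ⟨_, Presheaf.imageSieve_mem K (toSheafify K (lanP G F)) (U := op d) t, fun d' f hf => ?_⟩
  obtain ⟨p, hp⟩ := hf
  obtain ⟨g, x, hx⟩ := Types.jointly_surjective _
    (isColimitOfPreserves (forget AddCommGrpCat.{u + 1})
      (G.op.isPointwiseLeftKanExtensionLeftKanExtensionUnit F.obj (op d'))) p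
  refine ⟨g.left.unop, g.hom.unop, x, ?_⟩
  rw [sGerm_eq_toSheafify]
  exact (congrArg (fun q => (toSheafify K (lanP G F)).app (op d') q) hx).trans hp

/-- equal germs agree locally -/
theorem exists_cover_of_sGerm_eq {d : D} {U : C} (b : d ⟶ G.obj U) (x y : F.obj.obj (op U))
    (h : sGerm G K F b x = sGerm G K F b y) :
    ∃ R ∈ K d, ∀ ⦃d' : D⦄ (f : d' ⟶ d), R.arrows f → ∃ (U' : C) (b' : d' ⟶ G.obj U') (c : U' ⟶ U),
      b' ≫ G.map c = f ≫ b ∧ F.obj.map c.op x = F.obj.map c.op y := by
  rw [sGerm_eq_toSheafify, sGerm_eq_toSheafify] at h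
  refine ⟨_, Presheaf.equalizerSieve_mem K (toSheafify K (lanP G F)) _ _ h, fun d' f hf => ?_⟩
  let g : CostructuredArrow G.op (op d') := CostructuredArrow.mk (f ≫ b).op
  have e : ∀ z : F.obj.obj (op U), (lanP G F).map f.op
      ((lanP G F).map b.op ((G.op.lanUnit.app F.obj).app (op U) z)) =
      (lanP G F).map (f ≫ b).op ((G.op.lanUnit.app F.obj).app (op U) z) := fun z => by
    rw [op_comp, Functor.map_comp]; rfl
  have hf' := (e x).symm.trans ((show _ = _ from hf).trans (e y))
  obtain ⟨k, p, q, hpq⟩ := (Types.FilteredColimit.isColimit_eq_iff _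
    (isColimitOfPreserves (forget AddCommGrpCat.{u + 1})
      (G.op.isPointwiseLeftKanExtensionLeftKanExtensionUnit F.obj (op d')))
    (i := g) (j := g) (xi := x) (xj := y)).1 hf'
  refine ⟨(IsFiltered.coeq p q).left.unop, (IsFiltered.coeq p q).hom.unop,
    (p ≫ IsFiltered.coeqHom p q).left.unop, ?_, ?_⟩
  · exact congrArg Quiver.Hom.unop (CostructuredArrow.w (p ≫ IsFiltered.coeqHom p q))
  · have e1 : ∀ (r : g ⟶ k) (z : F.obj.obj (op U)),
        F.obj.map (IsFiltered.coeqHom p q).left (F.obj.map r.left z) =
          F.obj.map (r ≫ IsFiltered.coeqHom p q).left z := fun r z =>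
      (congrArg (fun e => e z) (F.obj.map_comp r.left (IsFiltered.coeqHom p q).left)).symm
    have h2 := (e1 p x).symm.trans
      ((congrArg (fun z => F.obj.map (IsFiltered.coeqHom p q).left z) hpq).trans (e1 q y))
    rw [← IsFiltered.coeq_condition] at h2
    exact h2

end Groth.Agent.SitePullUnit
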